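import Cfsg.Agent.H520.MX.M3
import Cfsg.Agent.H605.MX.ConjTop

/-!
# S3509 MIX: the inputs M3, M4 of `mix_of_out`, simply laced types (helper520)

* `h46_E` : `E₆, E₇, E₈` are simply laced;
* `hM3_of`, `hM4_of` : the inputs of `mix_of_out` in all cases; the inputs for `q = 2` : `TwoIn` (helper534), M4t (helper24).
-/

set_option autoImplicit false
set_option linter.unusedSectionVars false

namespace Cfsg.Agent.H520.MX

open CoxeterSystem Cfsg Cfsg.Lie Cfsg.Lie.ChevalleyDatum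
open Cfsg.Agent.ChevalleyStructure Cfsg.Agent.ChevalleyStructure.Elts Cfsg.Agent.ChevalleyStructure.CoxeterGeom
  Cfsg.Agent.ChevalleyStructure.CoxeterGeomTypes Cfsg.Agent.ChevalleyStructure.NPerm
open Cfsg.Agent.Tits.Roots Cfsg.Agent.Tits.Core Cfsg.Agent.Nodes Cfsg.Agent.Nodes.Reps Cfsg.Agent.Nodes.BNOf
  Cfsg.Agent.Nodes.RGDChev
open Cfsg.Agent.BpExc Cfsg.Agent.BpExc.LangFr Cfsg.Agent.GpExc.Field
open Cfsg.Agent.H469.Exc Cfsg.Agent.H316.U6 Cfsg.Agent.H169.RG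

section

variable {D : ChevalleyDatum} {l : ℕ} {M : CoxeterMatrix (Fin l)}

theorem h46_E (hD : 60 ≤ D.nroots) (hp : IsType D l M) : (∀ i j, M i j ≠ 4) ∧ ∀ i j, M i j ≠ 6 := by
  suffices h : (∀ i j, (M i j == 4) = false) ∧ ∀ i j, (M i j == 6) = false from
    ⟨fun i j hc => by
      have h1 := h.1 i j
      rw [hc] at h1
      exact absurd h1 (by decide), fun i j hc => by
      have h1 := h.2 i j
      rw [hc] at h1
      exact absurd h1 (by decide)⟩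
  simp only [IsType, typeList, List.mem_cons, List.not_mem_nil, or_false, Prod.mk.injEq, Sigma.mk.injEq] at hp
  rcases hp with ⟨rfl, rfl, hM⟩ | ⟨rfl, rfl, hM⟩ | ⟨rfl, rfl, hM⟩ | ⟨rfl, rfl, hM⟩ | ⟨rfl, rfl, hM⟩ | ⟨rfl, rfl, hM⟩ |
    ⟨rfl, rfl, hM⟩
  all_goals first
    | (exfalso; revert hD; decide +kernel)
    | (obtain rfl := eq_of_heq hM; constructor <;> decide +kernel)

variable {hp : IsType D l M} {p q : ℕ} [hr : Fact p.Prime] {K₀ : Type} [Group K₀]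

/-- **The input M3 of `mix_of_out`.** -/
theorem hM3_of (m : MData hp p q K₀) (h4 : ∀ i j, M i j ≠ 4) (h6 : ∀ i j, M i j ≠ 6)
    (hTwo : q = 2 → ∀ s, (orderOf s).Coprime p → ∀ f : TorForm m s, ∀ K ≤ CI m s,
      (∀ c ∈ CI m s, ∀ x ∈ K, c * x * c⁻¹ ∈ K) → (∃ u ∈ K, u ≠ 1 ∧ u ^ p = 1) → TwoIn f K) :
    ∀ s, (orderOf s).Coprime p → ∀ f : TorForm m s, ∀ K ≤ CI m s, (∀ c ∈ CI m s, ∀ x ∈ K, c * x * c⁻¹ ∈ K) →
      (∃ u ∈ K, u ≠ 1 ∧ u ^ p = 1) → MixOut m f K (LR m) := by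
  intro s hs f K hK hKn hu
  have := finite_W hp M.toCoxeterSystem
  exact m3_out h4 h6 (fun b hb => H605.MX.exists_rep_top hp M.toCoxeterSystem h4 h6 hb) f hs hK hKn hu
    (fun hq => hTwo hq s hs f K hK hKn hu)

/-- **The input M4 of `mix_of_out`.** -/
theorem hM4_of (m : MData hp p q K₀) (h4 : ∀ i j, M i j ≠ 4) (h6 : ∀ i j, M i j ≠ 6)
    (h2 : q = 2 → ∀ s, ∀ f : TorForm m s, M4 m f) : ∀ s, ∀ f : TorForm m s, M4 m f := by
  intro s f
  have hq1 : 1 < q := by rw [← m.hq]; exact Nat.one_lt_pow m.he.ne' hr.out.one_lt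
  rcases Nat.lt_or_ge q 3 with hq | hq
  · exact h2 (by omega) s f
  · exact m4_of_three m h4 h6 hq f

end

end Cfsg.Agent.H520.MX
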