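import Cfsg.Agent.H520.MX.Frame
import Cfsg.Agent.H605.MX.Psi

/-!
# S3509 MIX: the assembly (helper520)

* `MixOut m f K V` : the output of M3: (A) an orbit of `a ≥ 2` orthogonal roots, `hTh s a c ∈ K` for all `c`; (B) a long root
  element in `K`; (C) an element of `K` of prime order `≠ p` and a long root element commuting with it and with `s`;
* `exists_gen_s` : a generator `s` of the group generated by the members of order `≠ p`;
* `mix_of_out` : a mixed family is no cover unless its members of order `≠ p` are.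
-/

set_option autoImplicit false
set_option linter.unusedSectionVars false

namespace Cfsg.Agent.H520.MX

open CoxeterSystem Cfsg Cfsg.Lie Cfsg.Lie.ChevalleyDatum
open Cfsg.Agent.ChevalleyStructure Cfsg.Agent.ChevalleyStructure.Elts Cfsg.Agent.ChevalleyStructure.CoxeterGeom
  Cfsg.Agent.ChevalleyStructure.CoxeterGeomTypes Cfsg.Agent.ChevalleyStructure.NPerm
open Cfsg.Agent.Tits.Roots Cfsg.Agent.Tits.Core Cfsg.Agent.Nodes Cfsg.Agent.Nodes.Reps Cfsg.Agent.Nodes.BNOf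
  Cfsg.Agent.Nodes.RGDChev Cfsg.Agent.Nodes.Bruhat Cfsg.Agent.Nodes.NormalForm Cfsg.Agent.Nodes.Coroot
open Cfsg.Agent.KFacts.RgdField Cfsg.Agent.KFacts.RgdChevCoord
open Cfsg.Agent.BpExc Cfsg.Agent.BpExc.TorCent Cfsg.Agent.BpExc.TorChev Cfsg.Agent.BpExc.Tow
  Cfsg.Agent.BpExc.TowChev Cfsg.Agent.BpExc.Pair Cfsg.Agent.BpExc.LangFr Cfsg.Agent.GpExc.Field
  Cfsg.Agent.BpExc.NInst Cfsg.Agent.BpExc.NChev
open Cfsg.Agent.H469.Exc Cfsg.Agent.H316.U6 Cfsg.Agent.H129.TorusChar Cfsg.Agent.H380.RC Cfsg.Agent.H169.RG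
  Cfsg.Agent.H694.RG Cfsg.Agent.H106.RC Cfsg.Agent.H873.RG Cfsg.Agent.H605.MX
open MulAction

/-- **A generator of the group generated by some of the members.** -/
theorem exists_gen_s {Y : Type*} [Group Y] {ι : Type*} [Finite ι] {x : ι → Y} {r : ι → ℕ} (hx : PF x r) {p : ℕ}
    (hp : p.Prime) (J : Set ι) (hJ : ∀ i ∈ J, r i ≠ p) (D : Subgroup Y) (hD : ∀ i, x i ∈ D) :
    ∃ s ∈ D, (orderOf s).Coprime p ∧ (∀ i ∈ J, x i ∈ Subgroup.zpowers s) ∧
      ∀ c : Y, c * s = s * c ↔ ∀ i ∈ J, c * x i = x i * c := by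
  classical
  have := Fintype.ofFinite ↥J
  obtain ⟨s, hs, hs1⟩ := exists_gen (fun i : J => x i) (fun i => r i) (fun i => hx.prime i)
    (fun i j h => Subtype.ext (hx.inj h)) (fun i => hx.pow i) (fun i j => hx.comm i j)
  have hcc : ∀ a ∈ Subgroup.closure (Set.range fun i : J => x i), ∀ c : Y, (∀ i ∈ J, c * x i = x i * c) → c * a = a * c := by
    intro a ha c hc
    have h1 : Subgroup.closure (Set.range fun i : J => x i) ≤ Subgroup.centralizer {c} := by
      rw [Subgroup.closure_le]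
      rintro _ ⟨i, rfl⟩
      rw [SetLike.mem_coe, Subgroup.mem_centralizer_singleton_iff]
      exact (hc i i.2).symm
    exact (Subgroup.mem_centralizer_singleton_iff.1 (h1 ha)).symm
  have hpw : ∀ a ∈ Subgroup.closure (Set.range fun i : J => x i), a ^ (∏ i : J, r i) = 1 := by
    intro a ha
    induction ha using Subgroup.closure_induction with
    | mem y hy =>
      obtain ⟨i, rfl⟩ := hy
      obtain ⟨k, hk⟩ := Finset.dvd_prod_of_mem (fun i : J => r i) (Finset.mem_univ i)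
      show x i ^ _ = 1
      rw [hk, pow_mul, hx.pow, one_pow]
    | one => exact one_pow _
    | mul a b ha hb iha ihb =>
      have h1 : Commute a b := hcc b hb a fun i hi => (hcc a ha (x i) fun j _ => hx.comm i j).symm
      rw [h1.mul_pow, iha, ihb, mul_one]
    | inv a _ iha => rw [inv_pow, iha, inv_one]
  refine ⟨s, ?_, ?_, fun i hi => hs1 ⟨i, hi⟩, fun c => ⟨fun h i hi => ?_, fun h => hcc s hs c h⟩⟩
  · have h1 : Subgroup.closure (Set.range fun i : J => x i) ≤ D := by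
      rw [Subgroup.closure_le]
      rintro _ ⟨i, rfl⟩
      exact hD i
    exact h1 hs
  · refine Nat.Coprime.coprime_dvd_left (orderOf_dvd_of_pow_eq_one (hpw s hs)) ?_
    refine Nat.Coprime.prod_left fun i _ => ?_
    rw [Nat.coprime_primes (hx.prime i) hp]
    exact hJ i i.2
  · obtain ⟨k, hk⟩ := Subgroup.mem_zpowers_iff.1 (hs1 ⟨i, hi⟩)
    have h2 : Commute c (s ^ k) := (show Commute c s from h).zpow_right k
    have h3 : s ^ k = x i := hk
    rw [h3] at h2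
    exact h2

section

variable {D : ChevalleyDatum} {l : ℕ} {M : CoxeterMatrix (Fin l)} {hp : IsType D l M} {p q : ℕ} [hr : Fact p.Prime]
  {K₀ : Type} [Group K₀]

/-- **The output of M3.** -/
inductive MixOut (m : MData hp p q K₀) {s : ↥(D.group (KK p))} (f : TorForm m s) (K : Subgroup ↥(D.group (KK p)))
    (V : ↥(D.group (KK p)) → Prop) : Prop
  | A (a : ℕ) (ha : 2 ≤ a) (s₁ : ℕ) (hs₁ : s₁ < D.nroots) (hper : f.θ^[a] (vec D l s₁) = vec D l s₁)
      (ho : ∀ i < a, ∀ j < a, i ≠ j →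
        cpr M.toCoxeterSystem hp.isCartan (f.θ^[i] (vec D l s₁)) (f.θ^[j] (vec D l s₁)) = 0)
      (hK : ∀ c : KK p, c ≠ 0 → c ^ q ^ a = c → hTh hp hs₁ f.α a c ∈ cjz f K)
  | B (v : ↥(D.group (KK p))) (hv : v ∈ K) (hV : V v)
  | C (w : ↥(D.group (KK p))) (hw : w ∈ K) (hwP : H368.RG.PPr (fixedSubgroup m.σ) p w) (v : ↥(D.group (KK p))) (hV : V v)
      (hwv : w * v = v * w) (hsv : s * v = v * s)

/-- the input M4: `[U, τ] = U` -/
def M4 (m : MData hp p q K₀) {s : ↥(D.group (KK p))} (f : TorForm m s) : Prop :=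
  ∀ (a : ℕ), 2 ≤ a → ∀ γ : Fin l → ℤ, IsRoot M.toCoxeterSystem hp.isCartan γ → f.θ^[a] γ = γ →
    (∀ i < a, ∀ j < a, i ≠ j → cpr M.toCoxeterSystem hp.isCartan (f.θ^[i] γ) (f.θ^[j] γ) = 0) →
    ∀ c : KK p, c ≠ 0 → orderOf c = q ^ a - 1 → ∀ τ ∈ TT D (KK p), f.α τ = τ →
    (∀ b, IsRoot M.toCoxeterSystem hp.isCartan b →
      cX hp τ b = c ^ (∑ i ∈ Finset.range a, (q : ℤ) ^ i * cpr M.toCoxeterSystem hp.isCartan b (f.θ^[i] γ))) →
    ∀ lam : (Fin l → ℤ) →+ ℤ,
    (∀ x, lam x = ∑ i ∈ Finset.range a, cpr M.toCoxeterSystem hp.isCartan x (f.θ^[i] γ)) →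
    UF hp p lam f.α ≤ cmm (UF hp p lam f.α) τ

/-- **M4 for `q ≥ 3`**, simply laced -/
theorem m4_of_three (m : MData hp p q K₀) (h4 : ∀ i j, M i j ≠ 4) (h6 : ∀ i j, M i j ≠ 6) (hq : 3 ≤ q)
    {s : ↥(D.group (KK p))} (f : TorForm m s) : M4 m f := by
  intro a ha γ hγ hper ho c hc hoc τ hτ hα hcX lam hlam
  have := finite_W hp M.toCoxeterSystem
  have hg : ∀ i < a, IsRoot M.toCoxeterSystem hp.isCartan (f.θ^[i] γ) := fun i _ => root_iter f.fr.root hγ i
  refine UF_le_cmm m f.lang lam hτ hα fun b hb h0 => cX_ne h4 h6 hq ha hc hoc hg ho hb ?_ (by rw [← hlam]; exact h0.ne')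
  rw [hcX b hb]
  have h2 : ∀ s : Finset ℕ, ∀ e : ℕ → ℤ, ∏ i ∈ s, c ^ ((q : ℤ) ^ i * e i) = c ^ (∑ i ∈ s, (q : ℤ) ^ i * e i) := by
    intro s e
    induction s using Finset.induction_on with
    | empty => simp
    | insert b s hb ih => rw [Finset.prod_insert hb, Finset.sum_insert hb, zpow_add₀ hc, ih]
  exact (h2 _ _).symm

/-- **MIX.** A mixed family is no cover unless its members of order `≠ p` are. -/
theorem mix_of_out {G Ω : Type} [Group G] [Finite G] [MulAction G Ω] [Nonempty Ω] {N : Subgroup G} (hE : Env G Ω N)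
    [IsSimpleGroup K₀] (e : N ≃* K₀)
    (m : MData hp p q K₀) (hF : H327.RG.Fr m.ι m.σ) {d : ℕ} {B : Fin l → Fin l → ℤ} (hB : InvC D l d B) (hd : d ≠ 0)
    {V : ↥(D.group (KK p)) → Prop} {U : ↥(D.group (KK p)) → Subgroup ↥(D.group (KK p))}
    (hY : YData m.ι (fixedSubgroup m.σ) p V U)
    (hM4 : ∀ s, ∀ f : TorForm m s, M4 m f)
    (hM3 : ∀ s, (orderOf s).Coprime p → ∀ f : TorForm m s, ∀ K ≤ CI m s, (∀ c ∈ CI m s, ∀ x ∈ K, c * x * c⁻¹ ∈ K) →
      (∃ u ∈ K, u ≠ 1 ∧ u ^ p = 1) → MixOut m f K V)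
    {κ : Type} [Finite κ] {x : κ → G} {y : κ → ↥(D.group (KK p))} {r : κ → ℕ}
    (hy : ∀ i, Rep hE e m.ι (x i) (y i)) (hpf : PF y r) {i₀ : κ} (hi₀ : r i₀ = p) (hN : y i₀ ∈ m.ι.range)
    (hreg : ¬ Cov Ω (fun i : {i // i ≠ i₀} => x i)) : ¬ Cov Ω x := by
  classical
  have := finite_W hp M.toCoxeterSystem
  have hrne : ∀ i, i ≠ i₀ → r i ≠ p := fun i hi h => hi (hpf.inj (h.trans hi₀.symm))
  obtain ⟨s, hsσ, hsp, hsz, hsc⟩ := exists_gen_s hpf hr.out {i | i ≠ i₀} (fun i hi => hrne i hi) (fixedSubgroup m.σ)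
    (fun i => Rep.fix hF (hy i))
  have hs0 : orderOf s ≠ 0 := by
    intro h0
    rw [h0, Nat.coprime_zero_left] at hsp
    exact hr.out.ne_one hsp
  obtain ⟨f⟩ := exists_torForm m (s := s) hsσ hs0 hsp (pow_orderOf_eq_one s)
  have hup : y i₀ ^ p = 1 := by
    have h1 := hpf.pow i₀
    rwa [hi₀] at h1
  -- the normal closure
  have hCI : m.ι.range ⊓ ⨅ i : {i // i ≠ i₀}, Subgroup.centralizer {y i} = CI m s := by
    ext c
    unfold CI
    rw [Subgroup.mem_inf, Subgroup.mem_inf, Subgroup.mem_iInf, Subgroup.mem_centralizer_singleton_iff, hsc]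
    exact and_congr Iff.rfl ⟨fun h i hi => Subgroup.mem_centralizer_singleton_iff.1 (h ⟨i, hi⟩),
      fun h i => Subgroup.mem_centralizer_singleton_iff.2 (h i i.2)⟩
  have huC : y i₀ ∈ CI m s := by
    rw [← hCI]
    exact ⟨hN, Subgroup.mem_iInf.2 fun j => Subgroup.mem_centralizer_singleton_iff.2 (hpf.comm i₀ j)⟩
  have hKe : H368.RG.KK m.ι.range y i₀ = H368.RG.nclo (CI m s) (y i₀) := by
    unfold H368.RG.KK
    rw [hCI]
  have hout := hM3 s hsp f (H368.RG.KK m.ι.range y i₀) (by rw [hKe]; exact H368.RG.nclo_le huC)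
    (fun c hc x hx => by rw [hKe] at hx ⊢; exact H368.RG.nclo_conj hc hx)
    ⟨y i₀, by rw [hKe]; exact H368.RG.nclo_self _ _, hpf.ne i₀, hup⟩
  have hcomm : ∀ v, s * v = v * s → ∀ i, i ≠ i₀ → y i * v = v * y i := fun v hv i hi =>
    ((hsc v).1 hv.symm i hi).symm
  rcases hout with ⟨a, ha, s₁, hs₁, hper, ho, hK⟩ | ⟨v, hv, hV⟩ | ⟨w, hw, hwP, v, hV, hwv, hsv⟩
  · -- case (A)
    have hγ : IsRoot M.toCoxeterSystem hp.isCartan (vec D l s₁) := isRoot_vec hp _ hs₁
    obtain ⟨c, hc, hoc⟩ := exists_orderOf (k := KK p) (natCast_ne m (by omega : 0 < a))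
    have hq1 : 1 ≤ q ^ a := Nat.one_le_pow _ _ (by rw [← m.hq]; exact pow_pos hr.out.pos _)
    have hca : c ^ q ^ a = c := by
      have h1 : c ^ (q ^ a - 1) = 1 := by rw [← hoc]; exact pow_orderOf_eq_one c
      have h2 : q ^ a = q ^ a - 1 + 1 := by omega
      rw [h2, pow_succ, h1, one_mul]
    have hca' : c ^ (p ^ m.e) ^ a = c := by rw [m.hq]; exact hca
    set τ := hTh hp hs₁ f.α a c with hτdef
    have hτ : τ ∈ TT D (KK p) := hTh_mem hp M.toCoxeterSystem (locFin p) f.frob f.fr hs₁ a hc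
    have hατ : f.α τ = τ := alpha_hTh hp M.toCoxeterSystem (locFin p) f.frob f.fr hs₁ hper hc hca'
    have hcX : ∀ b, cX hp τ b = c ^ (∑ i ∈ Finset.range a,
        (q : ℤ) ^ i * cpr M.toCoxeterSystem hp.isCartan b (f.θ^[i] (vec D l s₁))) := by
      intro b
      have h1 := cX_hTh hp M.toCoxeterSystem (locFin p) f.frob f.fr hs₁ a hc b
      rw [hτdef]
      have h2 : ((p : ℤ) ^ m.e) = (q : ℤ) := by exact_mod_cast m.hq
      rw [h2] at h1
      exact h1
    obtain ⟨lam, hlam, hinv⟩ := exists_lam (cs := M.toCoxeterSystem) (h := hp.isCartan) f.fr.root hγ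
      (by omega : 0 < a) hper
    have h2 : lam (vec D l s₁) = 2 := by
      rw [hlam]
      exact lam_root (g := fun i => f.θ^[i] (vec D l s₁)) (by omega : 0 < a) hγ ho
    -- the opposite orbit
    have hiter : ∀ i : ℕ, f.θ^[i] (-vec D l s₁) = -f.θ^[i] (vec D l s₁) := fun i => by
      induction i with
      | zero => rfl
      | succ i ih => rw [Function.iterate_succ_apply', ih, map_neg, ← Function.iterate_succ_apply' (f := f.θ)]
    have hcn : ∀ x i, cpr M.toCoxeterSystem hp.isCartan x (f.θ^[i] (-vec D l s₁)) =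
        -cpr M.toCoxeterSystem hp.isCartan x (f.θ^[i] (vec D l s₁)) := fun x i => by
      rw [hiter, cpr_neg_right _ _ _ (root_iter f.fr.root hγ i)]
    have hU := hM4 s f a ha (vec D l s₁) hγ hper ho c hc hoc τ hτ hατ (fun b _ => hcX b) lam hlam
    have hU' := hM4 s f a ha (-vec D l s₁) hγ.neg (by rw [hiter, hper]) (fun i hi j hj hij => by
        rw [hcn, hiter, cpr_neg _ _ _ (root_iter f.fr.root hγ j), ho i hi j hj hij, neg_zero, neg_zero])
      c⁻¹ (inv_ne_zero hc) (by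
        have h5 : orderOf (Units.mk0 c hc)⁻¹ = orderOf (Units.mk0 c hc) := orderOf_inv _
        rw [← orderOf_units, ← orderOf_units, Units.val_inv_eq_inv_val, Units.val_mk0] at h5
        rw [h5, hoc]) τ hτ hατ (fun b _ => by
        rw [hcX b, inv_zpow', ← Finset.sum_neg_distrib]
        congr 1
        refine Finset.sum_congr rfl fun i _ => ?_
        rw [hcn]; ring) (-lam) (fun x => by
        rw [AddMonoidHom.neg_apply, hlam, ← Finset.sum_neg_distrib]
        exact Finset.sum_congr rfl fun i _ => (hcn x i).symm)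
    exact mix_tor hE e m hF hB hd f hy hpf hi₀ hN (fun i hi => hsz i hi) hreg hτ hατ (hK c hc hca) lam hinv
      ⟨_, hγ, by rw [h2]; norm_num⟩ hU hU'
  · -- case (B)
    refine kill_mixedY hF hE e hY hy hpf hi₀ hN hV (hcomm v ?_) (Or.inl hv)
    have h1 : v ∈ CI m s := by
      rw [hKe] at hv
      exact H368.RG.nclo_le huC hv
    exact (Subgroup.mem_centralizer_singleton_iff.1 h1.2).symm
  · -- case (C)
    exact kill_mixedY hF hE e hY hy hpf hi₀ hN hV (hcomm v hsv) (Or.inr ⟨w, hw, hwP, hwv⟩)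

end

end Cfsg.Agent.H520.MX
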