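import Cfsg.Agent.H368.RG.Engine3
import Cfsg.Agent.H380.RG.RuleY

/-!
# S3509, mixed covers of the exceptional groups: the closing of case (A) (helper520)

`mix_reg` : rule (Y) for `y ∈ K` and the points moved by all members `x i`, `i ≠ i₀`;
`mix_end` : `y ∈ K` of order prime to `p`, two `p`-subgroups `U⁺`, `U⁻` with `[U^±, y] = U^±` generating `N`: then the members
of order `≠ p` cover `Ω`.
-/

set_option autoImplicit false
set_option linter.unusedSectionVars false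

namespace Cfsg.Agent.H520.MX

open MulAction Cfsg.Agent.H106.RC Cfsg.Agent.H380.RC Cfsg.Agent.H873.RG Cfsg.Agent.H368.RG

variable {G Ω ι : Type} [Group G] [Finite G] [MulAction G Ω] {N D : Subgroup G} {x : ι → G} {r : ι → ℕ} {p : ℕ}

/-- the orders are prime to the order of a `p`-group -/
theorem cop_card (hp : p.Prime) {U : Subgroup G} (hU : IsPGroup p U) {y : G} (hy : (orderOf y).Coprime p) :
    (orderOf y).Coprime (Nat.card U) := by
  have : Fact p.Prime := ⟨hp⟩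
  obtain ⟨n, hn⟩ := (IsPGroup.iff_card.1 hU)
  rw [hn]
  exact Nat.Coprime.pow_right n hy

/-- **Rule (Y) for `y ∈ K`.** -/
theorem mix_reg (hp : p.Prime) (hx : PF x r) (hcov : Cov Ω x) {i₀ : ι} (hi₀ : r i₀ = p) (huN : x i₀ ∈ N) {y : G}
    (hy : y ∈ KK N x i₀) (hyp : (orderOf y).Coprime p) {U : Subgroup G} (hUp : IsPGroup p U)
    (hU : ∀ i, i ≠ i₀ → ∀ u ∈ U, x i * u * (x i)⁻¹ ∈ U) (hyU : ∀ u ∈ U, y * u * y⁻¹ ∈ U) {ω : Ω}
    (hω : ∀ i, i ≠ i₀ → x i • ω ≠ ω) : cmm U y ≤ stabilizer G ω := by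
  have : Fact p.Prime := ⟨hp⟩
  refine Cfsg.Agent.H380.RG.ruleY (x := fun i : {i // i ≠ i₀} => x i) (U := U) (fun i j => hx.comm i j)
    (fun i => KK_comm huN (fun j => hx.comm i₀ j) hy i.2) (fun i => hU i i.2) hyU hUp.isNilpotent ?_
    (cop_card hp hUp hyp) ?_ (fun i => hω i i.2)
  · intro i
    apply cop_card hp hUp
    have h1 : orderOf (x i.1) ∣ r i := orderOf_dvd_of_pow_eq_one (hx.pow i)
    refine Nat.Coprime.coprime_dvd_left h1 ?_
    rw [Nat.coprime_primes (hx.prime i) hp]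
    exact fun h => i.2 (hx.inj (h.trans hi₀.symm))
  · intro ω' h1
    rcases KK_cov hcov hy ω' with ⟨j, hj, h3⟩ | h3
    · exact absurd h3 (h1 ⟨j, hj⟩)
    · exact h3

/-- **The closing of case (A).** -/
theorem mix_end (hp : p.Prime) (hE : Env G Ω N) (hx : PF x r) (hcov : Cov Ω x) {i₀ : ι} (hi₀ : r i₀ = p)
    (huN : x i₀ ∈ N) {y : G} (hy : y ∈ KK N x i₀) (hyp : (orderOf y).Coprime p) {U U' : Subgroup G} (hUp : IsPGroup p U)
    (hU : ∀ i, i ≠ i₀ → ∀ u ∈ U, x i * u * (x i)⁻¹ ∈ U) (hyU : ∀ u ∈ U, y * u * y⁻¹ ∈ U) (hUy : U ≤ cmm U y)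
    (hUp' : IsPGroup p U') (hU' : ∀ i, i ≠ i₀ → ∀ u ∈ U', x i * u * (x i)⁻¹ ∈ U') (hyU' : ∀ u ∈ U', y * u * y⁻¹ ∈ U')
    (hUy' : U' ≤ cmm U' y) (hN : N ≤ U ⊔ U') : Cov Ω (fun i : {i // i ≠ i₀} => x i) := by
  intro ω
  by_contra hcon
  push Not at hcon
  have hω : ∀ i, i ≠ i₀ → x i • ω ≠ ω := fun i hi => hcon ⟨i, hi⟩
  refine hE.nofix ω (hN.trans (sup_le ?_ ?_))
  · exact hUy.trans (mix_reg hp hx hcov hi₀ huN hy hyp hUp hU hyU hω)
  · exact hUy'.trans (mix_reg hp hx hcov hi₀ huN hy hyp hUp' hU' hyU' hω)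

/-- the members of order `≠ p` form a family -/
theorem pf_rest (hx : PF x r) (i₀ : ι) : PF (fun i : {i // i ≠ i₀} => x i) (fun i => r i) :=
  ⟨fun i => hx.prime i, fun _ _ h => Subtype.ext (hx.inj h), fun i => hx.pow i, fun i => hx.ne i,
    fun i j => hx.comm i j⟩

end Cfsg.Agent.H520.MX
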