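import Cfsg.Agent.H520.MX.Lam
import Cfsg.Agent.H534.MX.Kap
import Cfsg.Agent.H441.RG.CentTF

/-!
# S3509 MIX: M3a in the toral form (helper520)

`f : TorForm m s`, `K ≤ ι K₀ ∩ C(s)` normal in `ι K₀ ∩ C(s)`, containing an element `≠ 1` of order a power of `p`:
`orbit_out`, the output of `H534.MX.exists_orbit` for `K' = {x | z x z⁻¹ ∈ K}`.
-/

set_option autoImplicit false
set_option linter.unusedSectionVars false

namespace Cfsg.Agent.H520.MX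

open CoxeterSystem Cfsg Cfsg.Lie Cfsg.Lie.ChevalleyDatum
open Cfsg.Agent.ChevalleyStructure Cfsg.Agent.ChevalleyStructure.Elts Cfsg.Agent.ChevalleyStructure.CoxeterGeom
  Cfsg.Agent.ChevalleyStructure.CoxeterGeomTypes Cfsg.Agent.ChevalleyStructure.NPerm
open Cfsg.Agent.Tits.Roots Cfsg.Agent.Tits.Core Cfsg.Agent.Nodes Cfsg.Agent.Nodes.Reps Cfsg.Agent.Nodes.BNOf
  Cfsg.Agent.Nodes.RGDChev Cfsg.Agent.Nodes.Bruhat Cfsg.Agent.Nodes.NormalForm Cfsg.Agent.Nodes.Coroot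
open Cfsg.Agent.KFacts.RgdField Cfsg.Agent.KFacts.RgdChevCoord
open Cfsg.Agent.BpExc Cfsg.Agent.BpExc.TorCent Cfsg.Agent.BpExc.TorChev Cfsg.Agent.BpExc.Tow
  Cfsg.Agent.BpExc.TowChev Cfsg.Agent.BpExc.Pair Cfsg.Agent.BpExc.LangFr Cfsg.Agent.GpExc.Field
  Cfsg.Agent.BpExc.NInst Cfsg.Agent.BpExc.NChev
open Cfsg.Agent.H469.Exc Cfsg.Agent.H316.U6 Cfsg.Agent.H129.TorusChar Cfsg.Agent.H169.RG
  Cfsg.Agent.H28.RG Cfsg.Agent.H441.RG Cfsg.Agent.H534.MX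

universe v

section

variable {D : ChevalleyDatum} {l : ℕ} {M : CoxeterMatrix (Fin l)} {hp : IsType D l M} {p q : ℕ} [hr : Fact p.Prime]
  {K₀ : Type} [Group K₀] {m : MData hp p q K₀} {s : ↥(D.group (KK p))}

/-- the subgroup of `Y^α` corresponding to `K ≤ Y^σ` -/
noncomputable def cjz (f : TorForm m s) (K : Subgroup ↥(D.group (KK p))) : Subgroup ↥(D.group (KK p)) :=
  K.comap (MulAut.conj f.z).toMonoidHom

theorem mem_cjz {f : TorForm m s} {K : Subgroup ↥(D.group (KK p))} {x : ↥(D.group (KK p))} :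
    x ∈ cjz f K ↔ f.z * x * f.z⁻¹ ∈ K := Iff.rfl

/-- `ι K₀ ∩ C(s)` -/
noncomputable def CI (m : MData hp p q K₀) (s : ↥(D.group (KK p))) : Subgroup ↥(D.group (KK p)) :=
  m.ι.range ⊓ Subgroup.centralizer {s}

theorem cjz_CI_le (f : TorForm m s) : cjz f (CI m s) ≤ fixC f.α f.t := by
  intro x hx
  obtain ⟨⟨a, ha⟩, h2⟩ := Subgroup.mem_inf.1 (mem_cjz.1 hx)
  have h1 : m.σ (f.z * x * f.z⁻¹) = f.z * x * f.z⁻¹ := by rw [← ha]; exact m.fix a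
  have h3 := Subgroup.mem_centralizer_singleton_iff.1 h2
  have e : f.z⁻¹ * (f.z * x * f.z⁻¹) * f.z = x := by group
  have h4 := (f.comm_iff _).1 h3
  rw [e] at h4
  exact mem_fixC.2 ⟨(f.fix_iff' x).1 h1, h4⟩

theorem mem_sigma {f : TorForm m s} {x : ↥(D.group (KK p))} (hx : x ∈ fixC f.α f.t) :
    m.σ (f.z * x * f.z⁻¹) = f.z * x * f.z⁻¹ ∧ f.z * x * f.z⁻¹ * s = s * (f.z * x * f.z⁻¹) := by
  obtain ⟨h1, h2⟩ := mem_fixC.1 hx
  refine ⟨(f.fix_iff' x).2 h1, (f.comm_iff _).2 ?_⟩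
  have e : f.z⁻¹ * (f.z * x * f.z⁻¹) * f.z = x := by group
  rw [e]
  exact h2

theorem cjz_CI_norm (f : TorForm m s) {c x : ↥(D.group (KK p))} (hc : c ∈ fixC f.α f.t) (hx : x ∈ cjz f (CI m s)) :
    c * x * c⁻¹ ∈ cjz f (CI m s) := by
  obtain ⟨h1, h2⟩ := mem_sigma hc
  obtain ⟨⟨a, ha⟩, h3⟩ := Subgroup.mem_inf.1 (mem_cjz.1 hx)
  have h4 := Subgroup.mem_centralizer_singleton_iff.1 h3
  obtain ⟨b, hb⟩ := m.norm _ h1 a
  have e : f.z * (c * x * c⁻¹) * f.z⁻¹ = f.z * c * f.z⁻¹ * (f.z * x * f.z⁻¹) * (f.z * c * f.z⁻¹)⁻¹ := by group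
  refine mem_cjz.2 (Subgroup.mem_inf.2 ⟨⟨b, ?_⟩, Subgroup.mem_centralizer_singleton_iff.2 ?_⟩)
  · rw [hb, ha, e]
  · rw [e]
    set g := f.z * c * f.z⁻¹
    set y := f.z * x * f.z⁻¹
    have h5 : g⁻¹ * s = s * g⁻¹ := by
      calc g⁻¹ * s = g⁻¹ * (s * g) * g⁻¹ := by group
        _ = g⁻¹ * (g * s) * g⁻¹ := by rw [h2]
        _ = s * g⁻¹ := by group
    calc g * y * g⁻¹ * s = g * y * (g⁻¹ * s) := by group
      _ = g * (y * s) * g⁻¹ := by rw [h5]; group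
      _ = (g * s) * (y * g⁻¹) := by rw [h4]; group
      _ = s * (g * y * g⁻¹) := by rw [h2]; group

/-- the elements of `Y^α ∩ C(t)` of order a power of `p` -/
theorem mem_cjz_CI (f : TorForm m s) {x : ↥(D.group (KK p))} (hx : x ∈ fixC f.α f.t) {j : ℕ} (hj : x ^ p ^ j = 1) :
    x ∈ cjz f (CI m s) := by
  obtain ⟨h1, h2⟩ := mem_sigma hx
  refine mem_cjz.2 (Subgroup.mem_inf.2 ⟨mem_range_of_pow m h1 (k := j) ?_, Subgroup.mem_centralizer_singleton_iff.2 h2⟩)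
  rw [conj_pow, hj, mul_one, mul_inv_cancel]

/-- **M3a in the toral form.** -/
theorem orbit_out (h4 : ∀ i j, M i j ≠ 4) (h6 : ∀ i j, M i j ≠ 6) (f : TorForm m s) (hs : (orderOf s).Coprime p)
    {K : Subgroup ↥(D.group (KK p))} (hK : K ≤ CI m s) (hKn : ∀ c ∈ CI m s, ∀ x ∈ K, c * x * c⁻¹ ∈ K)
    {u : ↥(D.group (KK p))} (hu : u ∈ K) (hu1 : u ≠ 1) {j : ℕ} (huj : u ^ p ^ j = 1) :
    ∃ (w : M.Group) (b : Fin l → ℤ), b ∈ Sg M.toCoxeterSystem hp.isCartan (ch hp) f.t w ∧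
      (∀ c ∈ Sg M.toCoxeterSystem hp.isCartan (ch hp) f.t w, ht c ≤ ht b) ∧
      (∀ c ∈ Sg M.toCoxeterSystem hp.isCartan (ch hp) f.t w, f.θ c ∈ Sg M.toCoxeterSystem hp.isCartan (ch hp) f.t w) ∧
      (∀ j, f.θ^[j] b ≠ b → cpr M.toCoxeterSystem hp.isCartan b (f.θ^[j] b) = 0) ∧
      (∀ c ∈ Sg M.toCoxeterSystem hp.isCartan (ch hp) f.t w,
        ∀ y ∈ Subgroup.closure ({x | x ∈ RGD.Sup (XX D l (KK p)) (orb f.θ c) ∧ f.α x = x} ∪
        {x | x ∈ RGD.Sup (XX D l (KK p)) (orbN f.θ c) ∧ f.α x = x}),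
        ∀ n : ℕ, n.Coprime p → y ^ n = 1 → y ∈ cjz f K) := by
  have := finite_W hp M.toCoxeterSystem
  have hfin := finite_fixC_α f
  have d := dfr_torForm f hs
  have Dt : CDat M.toCoxeterSystem hp.isCartan (Tj hp (k := KK p)) (Xj hp (k := KK p)) (ch hp) f.α f.θ f.t :=
    d.cdat (locFin p)
  have H := tow (k := KK p) hp M.toCoxeterSystem (locFin p) p
  obtain ⟨P, hP⟩ := d.sylP (locFin p)
  rw [← PP0_eq (locFin p)] at hP
  have hKC' : cjz f K ≤ cjz f (CI m s) := fun x hx => hK hx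
  have hKn' : ∀ c ∈ cjz f (CI m s), ∀ x ∈ cjz f K, c * x * c⁻¹ ∈ cjz f K := by
    intro c hc x hx
    have h1 := hKn _ hc _ hx
    have e : f.z * (c * x * c⁻¹) * f.z⁻¹ = f.z * c * f.z⁻¹ * (f.z * x * f.z⁻¹) * (f.z * c * f.z⁻¹)⁻¹ := by group
    refine mem_cjz.2 ?_
    rw [e]
    exact h1
  have hPle : PP0 M.toCoxeterSystem hp.isCartan (Xj hp (k := KK p)) (ch hp) f.α f.t ≤ cjz f (CI m s) := by
    intro x hx
    have h1 : x ∈ fixC f.α f.t := by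
      rw [PP0_eq (locFin p)] at hx
      exact d.PK_le (locFin p) hx
    have h2 : IsPGroup p ↥(PP0 M.toCoxeterSystem hp.isCartan (Xj hp (k := KK p)) (ch hp) f.α f.t) :=
      (isPGroup_Up H (χ := ch hp) (t := f.t)).to_le inf_le_left
    obtain ⟨j, hj⟩ := h2 ⟨x, hx⟩
    exact mem_cjz_CI f h1 (j := j) (congrArg Subtype.val hj)
  have huK : f.z⁻¹ * u * f.z ∈ cjz f K := by
    refine mem_cjz.2 ?_
    have e : f.z * (f.z⁻¹ * u * f.z) * f.z⁻¹ = u := by group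
    rw [e]
    exact hu
  have hu1' : f.z⁻¹ * u * f.z ≠ 1 := by
    intro h1
    apply hu1
    have e : u = f.z * (f.z⁻¹ * u * f.z) * f.z⁻¹ := by group
    rw [e, h1]
    group
  have huj' : (f.z⁻¹ * u * f.z) ^ p ^ j = 1 := by
    have e : f.z⁻¹ * u * f.z = f.z⁻¹ * u * f.z⁻¹⁻¹ := by group
    rw [e, conj_pow, huj, mul_one, inv_inv, inv_mul_cancel]
  have h7 := exists_orbit H (coordsTL (locFin p) p) (d.frTL (locFin p)) Dt h4 h6 (K := cjz f K)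
    (hKC'.trans (cjz_CI_le f)) (fun g hg x hx => hKn' g (hPle hg) x hx)
    (fun L hL hLn hLp => core_of (cjz_CI_le f) (fun c hc x hx => cjz_CI_norm f hc hx) hKC' hKn'
      (d.pCore_eq_bot (locFin p)) hL hLn hLp)
    (inf_ne_of H (coordsTL (locFin p) p) (d.frTL (locFin p)) Dt P hP (cjz_CI_le f) (fun x hx ⟨j, hj⟩ => mem_cjz_CI f hx hj) hKC' hKn' huK hu1' ⟨j, huj'⟩)
  rw [XL_eq hp (locFin p)] at h7
  exact h7

end

end Cfsg.Agent.H520.MX
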