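import Cfsg.Agent.H520.MX.Fin
import Cfsg.Agent.H534.MX.TwoC

/-!
# S3509 MIX: the input M3 of `mix_of_out` for all `q`, simply laced types (helper520)

* `twoIn_of` : `TwoIn f K` (from helper534's `two_out`);
* `hM3_all` : M3.
-/

set_option autoImplicit false
set_option linter.unusedSectionVars false

namespace Cfsg.Agent.H520.MX

open CoxeterSystem Cfsg Cfsg.Lie Cfsg.Lie.ChevalleyDatum
open Cfsg.Agent.ChevalleyStructure Cfsg.Agent.ChevalleyStructure.Elts Cfsg.Agent.ChevalleyStructure.CoxeterGeom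
  Cfsg.Agent.ChevalleyStructure.CoxeterGeomTypes Cfsg.Agent.ChevalleyStructure.NPerm
open Cfsg.Agent.Tits.Roots Cfsg.Agent.Tits.Core Cfsg.Agent.Nodes Cfsg.Agent.Nodes.Reps Cfsg.Agent.Nodes.BNOf
  Cfsg.Agent.Nodes.RGDChev
open Cfsg.Agent.BpExc Cfsg.Agent.BpExc.LangFr Cfsg.Agent.GpExc.Field
open Cfsg.Agent.H469.Exc Cfsg.Agent.H316.U6 Cfsg.Agent.H129.TorusChar Cfsg.Agent.H169.RG

section

variable {D : ChevalleyDatum} {l : ℕ} {M : CoxeterMatrix (Fin l)}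
variable {hp : IsType D l M} {p q : ℕ} [hr : Fact p.Prime] {K₀ : Type} [Group K₀]

/-- **The input for `q = 2`.** -/
theorem twoIn_of (m : MData hp p q K₀) (h4 : ∀ i j, M i j ≠ 4) (h6 : ∀ i j, M i j ≠ 6) (hq : q = 2)
    {s : ↥(D.group (KK p))} (hs : (orderOf s).Coprime p) (f : TorForm m s) {K : Subgroup ↥(D.group (KK p))}
    (hK : K ≤ CI m s) (hKn : ∀ c ∈ CI m s, ∀ x ∈ K, c * x * c⁻¹ ∈ K) (hu : ∃ u ∈ K, u ≠ 1 ∧ u ^ p = 1) :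
    TwoIn f K := by
  obtain ⟨u, hu, hu1, hup⟩ := hu
  intro w b hb _ _ hcl hθ
  rcases H534.MX.two_out h4 h6 hq f hs hK hKn hu hu1 (j := 1) (by rw [pow_one]; exact hup) hb.1 hθ (hcl b hb) with
    ⟨c, hc, hθc, v, hv, hv1, hα, h⟩ | ⟨c, hc, hθc, v, hv, hv1, hα, h⟩
  · exact ⟨c, v, hc, hθc, hv, hv1, hα, Or.inl h⟩
  · exact ⟨c, v, hc, hθc, hv, hv1, hα, Or.inr h⟩

/-- **The input M3 of `mix_of_out`.** -/
theorem hM3_all (m : MData hp p q K₀) (h4 : ∀ i j, M i j ≠ 4) (h6 : ∀ i j, M i j ≠ 6) :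
    ∀ s, (orderOf s).Coprime p → ∀ f : TorForm m s, ∀ K ≤ CI m s, (∀ c ∈ CI m s, ∀ x ∈ K, c * x * c⁻¹ ∈ K) →
      (∃ u ∈ K, u ≠ 1 ∧ u ^ p = 1) → MixOut m f K (LR m) :=
  hM3_of m h4 h6 fun hq _ hs f _ hK hKn hu => twoIn_of m h4 h6 hq hs f hK hKn hu

end

end Cfsg.Agent.H520.MX
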