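import Cfsg.Agent.H520.MX.MixTor
import Cfsg.Agent.H123.ExcComb

/-!
# S3509 MIX: the functional of a `θ`-orbit, case (A) for `q ≥ 3` (helper520)

* `exists_lam` : `lam x = ∑ ⟨x, (θ^i γ)^∨⟩`, `θ`-invariant (`θ^a γ = γ`), `lam γ = 2` if the orbit is orthogonal;
* `exists_orderOf` : elements of order `q^a - 1` of the field;
* `mixA` : case (A) of MIX, simply laced, `q ≥ 3`, `a ≥ 2`.
-/

set_option autoImplicit false
set_option linter.unusedSectionVars false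

namespace Cfsg.Agent.H520.MX

open CoxeterSystem Cfsg Cfsg.Lie Cfsg.Lie.ChevalleyDatum
open Cfsg.Agent.ChevalleyStructure Cfsg.Agent.ChevalleyStructure.Elts Cfsg.Agent.ChevalleyStructure.CoxeterGeom
  Cfsg.Agent.ChevalleyStructure.CoxeterGeomTypes Cfsg.Agent.ChevalleyStructure.NPerm
open Cfsg.Agent.Tits.Roots Cfsg.Agent.Tits.Core Cfsg.Agent.Nodes Cfsg.Agent.Nodes.Reps Cfsg.Agent.Nodes.BNOf
  Cfsg.Agent.Nodes.RGDChev Cfsg.Agent.Nodes.Bruhat Cfsg.Agent.Nodes.NormalForm Cfsg.Agent.Nodes.Coroot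
open Cfsg.Agent.KFacts.RgdField Cfsg.Agent.KFacts.RgdChevCoord
open Cfsg.Agent.BpExc Cfsg.Agent.BpExc.TorCent Cfsg.Agent.BpExc.TorChev Cfsg.Agent.BpExc.Tow
  Cfsg.Agent.BpExc.TowChev Cfsg.Agent.BpExc.Pair Cfsg.Agent.BpExc.LangFr Cfsg.Agent.GpExc.Field
  Cfsg.Agent.BpExc.NInst Cfsg.Agent.BpExc.NChev
open Cfsg.Agent.H469.Exc Cfsg.Agent.H316.U6 Cfsg.Agent.H129.TorusChar Cfsg.Agent.H380.RC Cfsg.Agent.H169.RG
  Cfsg.Agent.H694.RG Cfsg.Agent.H106.RC Cfsg.Agent.H873.RG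
open MulAction

/-! ### the functional -/

section Lam

variable {I W : Type*} [Fintype I] [DecidableEq I] [Group W] [Finite W] {M : CoxeterMatrix I}
  {cs : CoxeterSystem M W} {A : I → I → ℤ} {h : IsCartan M A}

/-- the Cartan numbers are invariant, arbitrary first argument -/
theorem cpr_theta {θ : (I → ℤ) ≃+ (I → ℤ)} (hθ : ∀ a, IsRoot cs h (θ a) ↔ IsRoot cs h a) (x : I → ℤ) {y : I → ℤ}
    (hy : IsRoot cs h y) : cpr cs h (θ x) (θ y) = cpr cs h x y := by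
  have hy' : IsRoot cs h (θ y) := (hθ y).2 hy
  have key : ∀ x, ((ell cs h hy').comp θ.toAddMonoidHom) x = ell cs h hy x := by
    intro x
    have h3 : x = ∑ j, x j • (sr j : I → ℤ) := by
      funext i
      simp [sr, Finset.sum_apply, Pi.single_apply]
    rw [h3, map_sum, map_sum]
    refine Finset.sum_congr rfl fun j _ => ?_
    rw [map_zsmul, map_zsmul]
    congr 1
    exact H123.ExcComb.cpr_g hθ (isRoot_sr cs h j) hy
  exact key x

theorem root_iter {θ : (I → ℤ) ≃+ (I → ℤ)} (hθ : ∀ a, IsRoot cs h (θ a) ↔ IsRoot cs h a) {γ : I → ℤ}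
    (hγ : IsRoot cs h γ) (i : ℕ) : IsRoot cs h (θ^[i] γ) := by
  induction i with
  | zero => exact hγ
  | succ i ih => rw [Function.iterate_succ_apply']; exact (hθ _).2 ih

/-- **The functional of a `θ`-orbit.** -/
theorem exists_lam {θ : (I → ℤ) ≃+ (I → ℤ)} (hθ : ∀ a, IsRoot cs h (θ a) ↔ IsRoot cs h a) {γ : I → ℤ}
    (hγ : IsRoot cs h γ) {a : ℕ} (ha : 0 < a) (hper : θ^[a] γ = γ) : ∃ lam : (I → ℤ) →+ ℤ,
      (∀ x, lam x = ∑ i ∈ Finset.range a, cpr cs h x (θ^[i] γ)) ∧ ∀ x, lam (θ x) = lam x := by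
  refine ⟨∑ i : Fin a, ell cs h (root_iter hθ hγ i), ?_, ?_⟩
  · intro x
    rw [AddMonoidHom.finsetSum_apply, Finset.sum_range]
    rfl
  · intro x
    have h1 : ∀ x, (∑ i : Fin a, ell cs h (root_iter hθ hγ i)) x = ∑ i ∈ Finset.range a, cpr cs h x (θ^[i] γ) := by
      intro x
      rw [AddMonoidHom.finsetSum_apply, Finset.sum_range]
      rfl
    rw [h1, h1]
    obtain ⟨b, rfl⟩ : ∃ b, a = b + 1 := ⟨a - 1, by omega⟩
    rw [Finset.sum_range_succ', Finset.sum_range_succ (fun i => cpr cs h x (θ^[i] γ))]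
    congr 1
    · refine Finset.sum_congr rfl fun i _ => ?_
      rw [Function.iterate_succ_apply']
      exact cpr_theta hθ x (root_iter hθ hγ i)
    · have h2 : θ^[0] γ = θ (θ^[b] γ) := hper.symm.trans (Function.iterate_succ_apply' θ b γ)
      rw [h2]
      exact cpr_theta hθ x (root_iter hθ hγ b)

theorem lam_root {g : ℕ → I → ℤ} {a : ℕ} (ha : 0 < a) (h0 : IsRoot cs h (g 0))
    (ho : ∀ i < a, ∀ j < a, i ≠ j → cpr cs h (g i) (g j) = 0) :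
    ∑ i ∈ Finset.range a, cpr cs h (g 0) (g i) = 2 := by
  rw [Finset.sum_eq_single 0 (fun i hi hne => ho 0 ha i (Finset.mem_range.1 hi) (Ne.symm hne))
    (fun hn => absurd (Finset.mem_range.2 ha) hn), cpr_self cs h h0]

end Lam

/-! ### roots of unity -/

/-- elements of given order -/
theorem exists_orderOf {k : Type*} [Field k] [IsAlgClosed k] {n : ℕ} (hn : (n : k) ≠ 0) : ∃ c : k, c ≠ 0 ∧ orderOf c = n := by
  have : NeZero (n : k) := ⟨hn⟩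
  obtain ⟨c, hc⟩ := HasEnoughRootsOfUnity.exists_primitiveRoot k n
  have hn0 : n ≠ 0 := fun h => hn (by rw [h, Nat.cast_zero])
  exact ⟨c, hc.ne_zero hn0, hc.eq_orderOf.symm⟩

/-! ### case (A) -/

section A

variable {D : ChevalleyDatum} {l : ℕ} {M : CoxeterMatrix (Fin l)} {hp : IsType D l M} {p q : ℕ} [hr : Fact p.Prime]
  {K₀ : Type} [Group K₀]

theorem natCast_ne (m : MData hp p q K₀) {a : ℕ} (ha : 0 < a) : ((q ^ a - 1 : ℕ) : KK p) ≠ 0 := by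
  have hq : p ^ m.e = q := m.hq
  have h1 : 1 ≤ q ^ a := Nat.one_le_pow _ _ (by rw [← hq]; exact pow_pos hr.out.pos _)
  have h2 : ((q : ℕ) : KK p) = 0 := by
    rw [← hq, Nat.cast_pow, CharP.cast_eq_zero, zero_pow m.he.ne']
  rw [Nat.cast_sub h1, Nat.cast_pow, h2, zero_pow ha.ne', Nat.cast_one, zero_sub]
  exact neg_ne_zero.2 one_ne_zero

/-- **MIX, case (A)**: simply laced, `q ≥ 3`, `a ≥ 2`. -/
theorem mixA {G Ω : Type} [Group G] [Finite G] [MulAction G Ω] [Nonempty Ω] {N : Subgroup G} (hE : Env G Ω N)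
    [IsSimpleGroup K₀] (e : N ≃* K₀)
    (m : MData hp p q K₀) (hF : H327.RG.Fr m.ι m.σ) {d : ℕ} {B : Fin l → Fin l → ℤ} (hB : InvC D l d B) (hd : d ≠ 0)
    (h4 : ∀ i j, M i j ≠ 4) (h6 : ∀ i j, M i j ≠ 6) (hq : 3 ≤ q)
    {s : ↥(D.group (KK p))} (f : TorForm m s) {κ : Type} {x : κ → G} {y : κ → ↥(D.group (KK p))} {r : κ → ℕ}
    (hy : ∀ i, Rep hE e m.ι (x i) (y i)) (hpf : PF y r) {i₀ : κ} (hi₀ : r i₀ = p) (hN : y i₀ ∈ m.ι.range)
    (hs : ∀ i, i ≠ i₀ → y i ∈ Subgroup.zpowers s) (hreg : ¬ Cov Ω (fun i : {i // i ≠ i₀} => x i))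
    {a : ℕ} (ha : 2 ≤ a) {γ : Fin l → ℤ} (hγ : IsRoot M.toCoxeterSystem hp.isCartan γ) (hper : f.θ^[a] γ = γ)
    (ho : ∀ i < a, ∀ j < a, i ≠ j → cpr M.toCoxeterSystem hp.isCartan (f.θ^[i] γ) (f.θ^[j] γ) = 0)
    {c : KK p} (hc : c ≠ 0) (hoc : orderOf c = q ^ a - 1)
    {τ : ↥(D.group (KK p))} (hτ : τ ∈ TT D (KK p)) (hα : f.α τ = τ)
    (hcX : ∀ b, IsRoot M.toCoxeterSystem hp.isCartan b →
      cX hp τ b = ∏ i ∈ Finset.range a, c ^ ((q : ℤ) ^ i * cpr M.toCoxeterSystem hp.isCartan b (f.θ^[i] γ)))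
    (hK : f.z * τ * f.z⁻¹ ∈ H368.RG.KK m.ι.range y i₀) : ¬ Cov Ω x := by
  have := finite_W hp M.toCoxeterSystem
  obtain ⟨lam, hlam, hinv⟩ := exists_lam (cs := M.toCoxeterSystem) (h := hp.isCartan) f.fr.root hγ (by omega : 0 < a) hper
  have hg : ∀ i < a, IsRoot M.toCoxeterSystem hp.isCartan (f.θ^[i] γ) := fun i _ => root_iter f.fr.root hγ i
  have h2 : lam γ = 2 := by
    rw [hlam]
    exact lam_root (g := fun i => f.θ^[i] γ) (by omega : 0 < a) hγ ho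
  have hS : ∀ b, IsRoot M.toCoxeterSystem hp.isCartan b → lam b ≠ 0 → cX hp τ b ≠ 1 := fun b hb hb0 =>
    cX_ne h4 h6 hq ha hc hoc hg ho hb (hcX b hb) (by rw [← hlam]; exact hb0)
  refine mix_tor hE e m hF hB hd f hy hpf hi₀ hN hs hreg hτ hα hK lam hinv ⟨γ, hγ, by rw [h2]; norm_num⟩ ?_ ?_
  · exact UF_le_cmm m f.lang lam hτ hα fun b hb h0 => hS b hb h0.ne'
  · refine UF_le_cmm m f.lang (-lam) hτ hα fun b hb h0 => hS b hb ?_
    intro h1
    rw [AddMonoidHom.neg_apply, h1, neg_zero] at h0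
    exact lt_irrefl _ h0

end A

end Cfsg.Agent.H520.MX
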