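import Cfsg.Agent.H520.MX.Asm
import Cfsg.Agent.H605.MX.Cases
import Cfsg.Agent.H798.RG.LongRoot

/-!
# S3509 MIX: the output of M3 (helper520)

* `Out1 f K` : a root element `v`, `θ b = b`, in `K`, or commuting with an element of `K` of prime order `≠ p`;
* `mixOut_of_out1` : cases (B), (C);
* `m3_out` : `MixOut`, simply laced, from `orbit_out`, `H605.MX.caseA`, `H605.MX.case1`, and the case `q = 2`, `θ b = b`.
-/

set_option autoImplicit false
set_option linter.unusedSectionVars false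

namespace Cfsg.Agent.H520.MX

open CoxeterSystem Cfsg Cfsg.Lie Cfsg.Lie.ChevalleyDatum
open Cfsg.Agent.ChevalleyStructure Cfsg.Agent.ChevalleyStructure.Elts Cfsg.Agent.ChevalleyStructure.CoxeterGeom
  Cfsg.Agent.ChevalleyStructure.CoxeterGeomTypes Cfsg.Agent.ChevalleyStructure.NPerm
open Cfsg.Agent.Tits.Roots Cfsg.Agent.Tits.Core Cfsg.Agent.Nodes Cfsg.Agent.Nodes.Reps Cfsg.Agent.Nodes.BNOf
  Cfsg.Agent.Nodes.RGDChev Cfsg.Agent.Nodes.Bruhat Cfsg.Agent.Nodes.NormalForm Cfsg.Agent.Nodes.Coroot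
open Cfsg.Agent.KFacts.RgdField Cfsg.Agent.KFacts.RgdChevCoord
open Cfsg.Agent.BpExc Cfsg.Agent.BpExc.TorCent Cfsg.Agent.BpExc.TorChev Cfsg.Agent.BpExc.Tow
  Cfsg.Agent.BpExc.TowChev Cfsg.Agent.BpExc.Pair Cfsg.Agent.BpExc.LangFr Cfsg.Agent.GpExc.Field
  Cfsg.Agent.BpExc.NInst Cfsg.Agent.BpExc.NChev
open Cfsg.Agent.H469.Exc Cfsg.Agent.H316.U6 Cfsg.Agent.H129.TorusChar Cfsg.Agent.H169.RG
  Cfsg.Agent.H28.RG Cfsg.Agent.H441.RG Cfsg.Agent.H534.MX Cfsg.Agent.H605.MX

section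

variable {D : ChevalleyDatum} {l : ℕ} {M : CoxeterMatrix (Fin l)} {hp : IsType D l M} {p q : ℕ} [hr : Fact p.Prime]
  {K₀ : Type} [Group K₀] {m : MData hp p q K₀} {s : ↥(D.group (KK p))}

/-- a root element of a root fixed by `θ`: in `K` or commuting with an element of `K` of prime order `≠ p` -/
def Out1 (f : TorForm m s) (K : Subgroup ↥(D.group (KK p))) : Prop :=
  ∃ (b : Fin l → ℤ) (v : ↥(D.group (KK p))), b ∈ Sx M.toCoxeterSystem hp.isCartan (ch hp) f.t ∧ f.θ b = b ∧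
    v ∈ XX D l (KK p) b ∧ v ≠ 1 ∧ f.α v = v ∧
    (v ∈ cjz f K ∨ ∃ y ∈ cjz f K, y ≠ 1 ∧ (∃ r : ℕ, r.Prime ∧ r ≠ p ∧ y ^ r = 1) ∧ y * v = v * y)

/-- root elements of `Sx t` commute with `t` -/
theorem comm_of_Sx (f : TorForm m s) {b : Fin l → ℤ} (hb : b ∈ Sx M.toCoxeterSystem hp.isCartan (ch hp) f.t)
    {v : ↥(D.group (KK p))} (hv : v ∈ XX D l (KK p) b) : v * f.t = f.t * v := by
  have := finite_W hp M.toCoxeterSystem
  have C := coordsL (k := KK p) hp M.toCoxeterSystem (locFin p) p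
  obtain ⟨a, rfl⟩ := ((C.coord b hb.1).mem v).1 hv
  have h1 := (C.coord b hb.1).act f.t f.mem a
  rw [hb.2, one_mul] at h1
  calc xc hp b a * f.t = (f.t * xc hp b a * f.t⁻¹) * f.t := by rw [h1]
    _ = f.t * xc hp b a := by group

theorem mixOut_of_out1 (hlong : ∀ b, IsRoot M.toCoxeterSystem hp.isCartan b → ∃ w : M.Group,
      b = rep M.toCoxeterSystem hp.isCartan w (vec D l (D.nroots - 1))) (f : TorForm m s)
    {K : Subgroup ↥(D.group (KK p))} (hK : K ≤ CI m s) (h : Out1 f K) : MixOut m f K (LR m) := by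
  obtain ⟨b, v, hb, hθ, hv, hv1, hα, h⟩ := h
  obtain ⟨w, hw⟩ := hlong b hb.1
  have hLR : LR m (f.z * v * f.z⁻¹) := H798.RG.lr_of_mem f hw hθ hv hα hv1
  rcases h with h | ⟨y, hy, hy1, ⟨r, hr1, hr2, hr3⟩, hyv⟩
  · exact MixOut.B _ h hLR
  · obtain ⟨⟨a, ha⟩, -⟩ := Subgroup.mem_inf.1 (hK hy)
    refine MixOut.C (f.z * y * f.z⁻¹) hy ⟨?_, fun h1 => hy1 ?_, r, hr1, hr2, ?_⟩ (f.z * v * f.z⁻¹) hLR ?_ ?_
    · have h2 : (MulAut.conj f.z).toMonoidHom y = f.z * y * f.z⁻¹ := rfl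
      show m.σ (f.z * y * f.z⁻¹) = f.z * y * f.z⁻¹
      rw [← h2, ← ha]
      exact m.fix a
    · have e : y = f.z⁻¹ * (f.z * y * f.z⁻¹) * f.z := by group
      rw [e, h1]
      group
    · rw [conj_pow, hr3, mul_one, mul_inv_cancel]
    · calc f.z * y * f.z⁻¹ * (f.z * v * f.z⁻¹) = f.z * (y * v) * f.z⁻¹ := by group
        _ = f.z * (v * y) * f.z⁻¹ := by rw [hyv]
        _ = f.z * v * f.z⁻¹ * (f.z * y * f.z⁻¹) := by group
    · have h3 : f.z * v * f.z⁻¹ * s = s * (f.z * v * f.z⁻¹) := by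
        refine (f.comm_iff _).2 ?_
        have e : f.z⁻¹ * (f.z * v * f.z⁻¹) * f.z = v := by group
        rw [e]
        exact comm_of_Sx f hb hv
      exact h3.symm

/-- the input for `q = 2`, `θ b = b` (helper534) -/
def TwoIn (f : TorForm m s) (K : Subgroup ↥(D.group (KK p))) : Prop :=
  ∀ (w : M.Group) (b : Fin l → ℤ), b ∈ Sg M.toCoxeterSystem hp.isCartan (ch hp) f.t w →
    (∀ c ∈ Sg M.toCoxeterSystem hp.isCartan (ch hp) f.t w, ht c ≤ ht b) →
    (∀ c ∈ Sg M.toCoxeterSystem hp.isCartan (ch hp) f.t w, f.θ c ∈ Sg M.toCoxeterSystem hp.isCartan (ch hp) f.t w) →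
    (∀ c ∈ Sg M.toCoxeterSystem hp.isCartan (ch hp) f.t w,
        ∀ y ∈ Subgroup.closure ({x | x ∈ RGD.Sup (XX D l (KK p)) (orb f.θ c) ∧ f.α x = x} ∪
        {x | x ∈ RGD.Sup (XX D l (KK p)) (orbN f.θ c) ∧ f.α x = x}),
        ∀ n : ℕ, n.Coprime p → y ^ n = 1 → y ∈ cjz f K) → f.θ b = b → Out1 f K

/-- **M3.** -/
theorem m3_out (h4 : ∀ i j, M i j ≠ 4) (h6 : ∀ i j, M i j ≠ 6)
    (hlong : ∀ b, IsRoot M.toCoxeterSystem hp.isCartan b → ∃ w : M.Group,
      b = rep M.toCoxeterSystem hp.isCartan w (vec D l (D.nroots - 1)))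
    (f : TorForm m s) (hs : (orderOf s).Coprime p)
    {K : Subgroup ↥(D.group (KK p))} (hK : K ≤ CI m s) (hKn : ∀ c ∈ CI m s, ∀ x ∈ K, c * x * c⁻¹ ∈ K)
    (hu : ∃ u ∈ K, u ≠ 1 ∧ u ^ p = 1) (hTwo : q = 2 → TwoIn f K) : MixOut m f K (LR m) := by
  have := finite_W hp M.toCoxeterSystem
  obtain ⟨u, hu, hu1, hup⟩ := hu
  obtain ⟨w, b, hb, hmax, hst, horth, hcl⟩ := orbit_out h4 h6 f hs hK hKn hu hu1 (j := 1) (by rw [pow_one]; exact hup)
  have hbr : IsRoot M.toCoxeterSystem hp.isCartan b := hb.1.1.1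
  obtain ⟨s₁, hs₁, rfl⟩ := (isRoot_iff hp M.toCoxeterSystem b).1 hbr
  have hq : p ^ m.e = q := m.hq
  have hq1 : 1 < q := by rw [← hq]; exact Nat.one_lt_pow m.he.ne' hr.out.one_lt
  -- the period
  have hper : ∃ a : ℕ, 0 < a ∧ f.θ^[a] (vec D l s₁) = vec D l s₁ := by
    have hfin := RGD.finite_roots (cs := M.toCoxeterSystem) (h := hp.isCartan)
    have h1 : ∀ j : ℕ, IsRoot M.toCoxeterSystem hp.isCartan (f.θ^[j] (vec D l s₁)) := root_iter f.fr.root hbr
    have hnot : ¬ Function.Injective (fun j : ℕ => (⟨f.θ^[j] (vec D l s₁), h1 j⟩ :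
        {x | IsRoot M.toCoxeterSystem hp.isCartan x})) := by
      intro hi
      have := hfin.to_subtype
      exact not_injective_infinite_finite _ hi
    rw [Function.Injective] at hnot
    push Not at hnot
    obtain ⟨i, j, hij, hne⟩ := hnot
    have hij' : f.θ^[i] (vec D l s₁) = f.θ^[j] (vec D l s₁) := congrArg Subtype.val hij
    have key : ∀ i j : ℕ, i < j → f.θ^[i] (vec D l s₁) = f.θ^[j] (vec D l s₁) →
        ∃ m : ℕ, 0 < m ∧ f.θ^[m] (vec D l s₁) = vec D l s₁ := by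
      intro i j hlt e
      refine ⟨j - i, by omega, ?_⟩
      have h2 : f.θ^[i] (f.θ^[j - i] (vec D l s₁)) = f.θ^[i] (vec D l s₁) := by
        rw [← Function.iterate_add_apply, show i + (j - i) = j by omega]
        exact e.symm
      exact (f.θ.injective.iterate i) h2
    rcases lt_or_gt_of_ne hne with h2 | h2
    · exact key i j h2 hij'
    · exact key j i h2 hij'.symm
  classical
  set a := Nat.find hper with hadef
  obtain ⟨ha0, hpa⟩ := Nat.find_spec hper
  rw [← hadef] at ha0 hpa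
  have hmin : ∀ i, 0 < i → i < a → f.θ^[i] (vec D l s₁) ≠ vec D l s₁ := fun i hi hia h1 =>
    Nat.find_min hper hia ⟨hi, h1⟩
  rcases Nat.lt_or_ge a 2 with ha | ha
  · -- `θ b = b`
    have ha1 : a = 1 := by omega
    rw [ha1] at hpa
    have hθ : f.θ (vec D l s₁) = vec D l s₁ := hpa
    refine mixOut_of_out1 hlong f hK ?_
    rcases Nat.lt_or_ge q 3 with hq3 | hq3
    · exact hTwo (by omega) w _ hb hmax hst hcl hθ
    · obtain ⟨v, hv, hv1, hαv, h⟩ := case1 (K := cjz f K) hp M.toCoxeterSystem (locFin p) f.frob f.fr h4 hs₁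
        (by rw [hq]; exact hq3) hθ (fun y hy n hn hyn => hcl _ hb y hy n hn hyn) (fun g hg hαg x hx => by
          have h1 : g ∈ fixC f.α f.t := mem_fixC.2 ⟨hαg, comm_of_Sx f hb.1.1 hg⟩
          have h2 : g ^ p ^ 1 = 1 := by
            have C := coordsL (k := KK p) hp M.toCoxeterSystem (locFin p) p
            obtain ⟨t, rfl⟩ := ((C.coord _ hbr).mem g).1 hg
            have h3 : ∀ n : ℕ, xc hp (vec D l s₁) t ^ n = xc hp (vec D l s₁) (n * t) := by
              intro n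
              induction n with
              | zero => rw [pow_zero, Nat.cast_zero, zero_mul, (C.coord _ hbr).zero]
              | succ n ih => rw [pow_succ, ih, ← (C.coord _ hbr).add, Nat.cast_succ, add_mul, one_mul]
            rw [h3, pow_one, CharP.cast_eq_zero, zero_mul, (C.coord _ hbr).zero]
          have h3 := mem_cjz_CI f h1 (j := 1) h2
          have h4 := hKn _ h3 _ hx
          have e : f.z * (g * x * g⁻¹) * f.z⁻¹ = f.z * g * f.z⁻¹ * (f.z * x * f.z⁻¹) * (f.z * g * f.z⁻¹)⁻¹ := by group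
          refine mem_cjz.2 ?_
          rw [e]
          exact h4)
      refine ⟨_, v, hb.1.1, hθ, hv, hv1, hαv, ?_⟩
      rcases h with h | ⟨hr2, y, hy, hy1, hy2, hyv⟩
      · exact Or.inl h
      · exact Or.inr ⟨y, hy, hy1, ⟨2, Nat.prime_two, fun h => hr2 h.symm, hy2⟩, hyv⟩
  · -- `a ≥ 2`
    have horth' : ∀ i, 0 < i → i < a → cpr M.toCoxeterSystem hp.isCartan (vec D l s₁) (f.θ^[i] (vec D l s₁)) = 0 :=
      fun i hi hia => horth i (hmin i hi hia)
    have hiter : ∀ (i : ℕ) (x y : Fin l → ℤ), IsRoot M.toCoxeterSystem hp.isCartan y →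
        cpr M.toCoxeterSystem hp.isCartan (f.θ^[i] x) (f.θ^[i] y) = cpr M.toCoxeterSystem hp.isCartan x y := by
      intro i
      induction i with
      | zero => exact fun x y _ => rfl
      | succ i ih =>
        intro x y hy
        rw [Function.iterate_succ_apply', Function.iterate_succ_apply', cpr_theta f.fr.root _ (root_iter f.fr.root hy i),
          ih x y hy]
    have hlt : ∀ i j, i < j → j < a →
        cpr M.toCoxeterSystem hp.isCartan (f.θ^[i] (vec D l s₁)) (f.θ^[j] (vec D l s₁)) = 0 := by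
      intro i j hij hja
      have e1 : f.θ^[j] (vec D l s₁) = f.θ^[i] (f.θ^[j - i] (vec D l s₁)) := by
        rw [← Function.iterate_add_apply, show i + (j - i) = j by omega]
      rw [e1, hiter i _ _ (root_iter f.fr.root hbr _)]
      exact horth' (j - i) (by omega) (by omega)
    have hpair : ∀ i < a, ∀ j < a, i ≠ j →
        cpr M.toCoxeterSystem hp.isCartan (f.θ^[i] (vec D l s₁)) (f.θ^[j] (vec D l s₁)) = 0 := by
      intro i hi j hj hij
      rcases Nat.lt_or_gt_of_ne hij with h1 | h1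
      · exact hlt i j h1 hj
      · exact (cpr_zero_comm _ _ (root_iter f.fr.root hbr _) (root_iter f.fr.root hbr _)).1 (hlt j i h1 hi)
    refine MixOut.A a ha s₁ hs₁ hpa hpair fun c hc hca => ?_
    refine caseA hp M.toCoxeterSystem (locFin p) f.frob f.fr hs₁ ?_ hpa
      (fun i hi hia => so_of_cpr h4 h6 hbr (root_iter f.fr.root hbr i) (horth' i hi hia))
      (fun y hy n hn hyn => hcl _ hb y hy n hn hyn) hc (by rw [hq]; exact hca)
    rw [hq]
    exact Nat.one_lt_pow (by omega) hq1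

end

end Cfsg.Agent.H520.MX
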