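import Cfsg.Agent.H520.MX.UpC
import Cfsg.Agent.H256.EX.Gen
import Cfsg.Agent.H694.RG.EngP

/-!
# S3509 MIX: case (A), a torus element of the normal closure (helper520)

`Rep hE e m.ι (x i) (y i)`, `x` a mixed family, `s` generates the members `y i`, `i ≠ i₀`, `f : TorForm m s`. If
`z τ z⁻¹` is in the normal closure of `y i₀`, `τ` in the torus, `α τ = τ`, and `[U⁺, τ] = U⁺`, `[U⁻, τ] = U⁻` for the unipotent
radicals of a `θ`-invariant functional, then `x` is no cover unless the `x i`, `i ≠ i₀`, are (`mix_tor`).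
-/

set_option autoImplicit false
set_option linter.unusedSectionVars false

namespace Cfsg.Agent.H520.MX

open CoxeterSystem Cfsg Cfsg.Lie Cfsg.Lie.ChevalleyDatum
open Cfsg.Agent.ChevalleyStructure Cfsg.Agent.ChevalleyStructure.Elts Cfsg.Agent.ChevalleyStructure.CoxeterGeom
  Cfsg.Agent.ChevalleyStructure.CoxeterGeomTypes Cfsg.Agent.ChevalleyStructure.NPerm
open Cfsg.Agent.Tits.Roots Cfsg.Agent.Tits.Core Cfsg.Agent.Nodes Cfsg.Agent.Nodes.Reps Cfsg.Agent.Nodes.BNOf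
  Cfsg.Agent.Nodes.RGDChev Cfsg.Agent.Nodes.Bruhat Cfsg.Agent.Nodes.NormalForm Cfsg.Agent.Nodes.Coroot
open Cfsg.Agent.KFacts.RgdField Cfsg.Agent.KFacts.RgdChevCoord
open Cfsg.Agent.BpExc Cfsg.Agent.BpExc.TorCent Cfsg.Agent.BpExc.TorChev Cfsg.Agent.BpExc.Tow
  Cfsg.Agent.BpExc.TowChev Cfsg.Agent.BpExc.Pair Cfsg.Agent.BpExc.LangFr Cfsg.Agent.GpExc.Field
  Cfsg.Agent.BpExc.NInst Cfsg.Agent.BpExc.NChev
open Cfsg.Agent.H469.Exc Cfsg.Agent.H316.U6 Cfsg.Agent.H129.TorusChar Cfsg.Agent.H380.RC Cfsg.Agent.H169.RG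
  Cfsg.Agent.H694.RG Cfsg.Agent.H106.RC Cfsg.Agent.H873.RG
open MulAction

/-! ### commutators and transport -/

section abs

variable {G Ω : Type} [Group G] [MulAction G Ω] {N : Subgroup G} {Y K₀ : Type} [Group Y] [Group K₀]
  {ι : K₀ →* Y} {σ : MulAut Y} (hE : Env G Ω N) (e : N ≃* K₀)

theorem cmm_map {A B : Type*} [Group A] [Group B] (φ : A →* B) {U : Subgroup A} {y : A} (h : U ≤ cmm U y) :
    U.map φ ≤ cmm (U.map φ) (φ y) := by
  refine (Subgroup.map_mono h).trans ?_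
  rw [cmm, MonoidHom.map_closure, Subgroup.closure_le]
  rintro _ ⟨_, ⟨u, hu, rfl⟩, rfl⟩
  rw [map_mul, map_mul, map_mul, map_inv, map_inv]
  exact mem_cmm (Subgroup.mem_map_of_mem φ hu)

/-- transport of `U ≤ [U, y]` -/
theorem cmm_lf (hF : H327.RG.Fr ι σ) {U : Subgroup Y} (hU : U ≤ ι.range) {g : G} {y : Y} (hg : Rep hE e ι g y)
    (h : U ≤ cmm U y) : lf e ι U ≤ cmm (lf e ι U) g := by
  have key : ∀ z ∈ cmm U y, ∃ c ∈ cmm (lf e ι U) g, Rep hE e ι c z := by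
    intro z hz
    induction hz using Subgroup.closure_induction with
    | mem z hz =>
      obtain ⟨u, hu, rfl⟩ := hz
      obtain ⟨b, rfl⟩ := hU hu
      have hb : Rep hE e ι (e.symm b : G) (ι b) := rep_symm b
      exact ⟨_, mem_cmm (mem_lf.2 ⟨b, hu, rfl⟩), ((hb.mul hg).mul hb.inv).mul hg.inv⟩
    | one => exact ⟨1, one_mem _, Rep.one⟩
    | mul z z' _ _ ih ih' =>
      obtain ⟨c, hc, h3⟩ := ih
      obtain ⟨c', hc', h4⟩ := ih'
      exact ⟨c * c', mul_mem hc hc', h3.mul h4⟩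
    | inv z _ ih =>
      obtain ⟨c, hc, h3⟩ := ih
      exact ⟨c⁻¹, inv_mem hc, h3.inv⟩
  intro u hu
  obtain ⟨a, ha, rfl⟩ := mem_lf.1 hu
  obtain ⟨c, hc, h3⟩ := key _ (h ha)
  rwa [Rep.inj hF (rep_symm a) h3]

/-- transport of conjugation -/
theorem conj_lf (hF : H327.RG.Fr ι σ) {U : Subgroup Y} (hU : U ≤ ι.range) {g : G} {y : Y} (hg : Rep hE e ι g y)
    (h : ∀ u ∈ U, y * u * y⁻¹ ∈ U) : ∀ u ∈ lf e ι U, g * u * g⁻¹ ∈ lf e ι U := by
  intro u hu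
  have hr : Rep hE e ι u (ι (e ⟨u, lf_le _ hu⟩)) := rep_coe _
  have h2 := (Rep.mem_lf hF hU hr).1 hu
  exact (Rep.mem_lf hF hU ((hg.mul hr).mul hg.inv)).2 (h _ h2)

/-- generation -/
theorem le_sup_lf (hι : Function.Injective ι) {U U' : Subgroup Y} (hU : U ≤ ι.range) (hU' : U' ≤ ι.range)
    (h : ∀ H' : Subgroup Y, U ≤ H' → U' ≤ H' → ι.range ≤ H') : N ≤ lf e ι U ⊔ lf e ι U' := by
  set Q : Subgroup K₀ := ((lf e ι U ⊔ lf e ι U').comap N.subtype).comap e.symm.toMonoidHom with hQ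
  have h1 : ι.range ≤ Q.map ι := by
    apply h
    · intro u hu
      obtain ⟨a, rfl⟩ := hU hu
      exact ⟨a, Subgroup.mem_sup_left (mem_lf.2 ⟨a, hu, rfl⟩), rfl⟩
    · intro u hu
      obtain ⟨a, rfl⟩ := hU' hu
      exact ⟨a, Subgroup.mem_sup_right (mem_lf.2 ⟨a, hu, rfl⟩), rfl⟩
  intro g hg
  obtain ⟨b, hb, hab⟩ := h1 ⟨e ⟨g, hg⟩, rfl⟩
  have h2 : b = e ⟨g, hg⟩ := hι hab
  subst h2
  have h3 : ((e.symm (e ⟨g, hg⟩) : N) : G) ∈ lf e ι U ⊔ lf e ι U' := hb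
  rwa [e.symm_apply_apply] at h3

end abs

/-! ### the unipotent radicals -/

section

variable {D : ChevalleyDatum} {l : ℕ} {M : CoxeterMatrix (Fin l)} {hp : IsType D l M} {p q : ℕ} [hr : Fact p.Prime]
  {K₀ : Type} [Group K₀]

/-- `p`-elements fixed by `σ` come from `K₀` -/
theorem mem_range_of_pow (m : MData hp p q K₀) {y : ↥(D.group (KK p))} (hσ : m.σ y = y) {k : ℕ}
    (hk : y ^ p ^ k = 1) : y ∈ m.ι.range := by
  obtain ⟨j, hj, hy⟩ := m.idx y hσ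
  have hcop : Nat.Coprime j (p ^ k) := Nat.Coprime.pow_right k hj
  have h1 : y ∈ Subgroup.zpowers (y ^ j) :=
    mem_zpowers_pow_iff.2 (Nat.Coprime.coprime_dvd_right (orderOf_dvd_of_pow_eq_one hk) hcop)
  exact (Subgroup.zpowers_le.2 hy) h1

/-- torus elements have order prime to `p` -/
theorem coprime_torus {y : ↥(D.group (KK p))} (hy : y ∈ TT D (KK p)) (hp : IsType D l M) : (orderOf y).Coprime p := by
  have := finite_W hp M.toCoxeterSystem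
  have H := tow (k := KK p) hp M.toCoxeterSystem (locFin p) p
  have hTL := TL_eq (k := KK p) hp (locFin p)
  rw [← hTL] at hy
  obtain ⟨j, hj⟩ := H.mem_TL.1 hy
  exact Nat.Coprime.coprime_dvd_left (Subgroup.orderOf_dvd_natCard _ hj) (H.rgd j).tcop

/-- the unipotent radical in `Y^σ` -/
noncomputable def CU (hp : IsType D l M) (p : ℕ) [Fact p.Prime] (z : ↥(D.group (KK p))) (lam : (Fin l → ℤ) →+ ℤ)
    (α : MulAut ↥(D.group (KK p))) : Subgroup ↥(D.group (KK p)) := (UF hp p lam α).map (MulAut.conj z).toMonoidHom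

theorem mem_CU {z : ↥(D.group (KK p))} {lam : (Fin l → ℤ) →+ ℤ} {α : MulAut ↥(D.group (KK p))} {u : ↥(D.group (KK p))} :
    u ∈ CU hp p z lam α ↔ ∃ v ∈ UF hp p lam α, z * v * z⁻¹ = u := Iff.rfl

theorem CU_pgroup {z : ↥(D.group (KK p))} {lam : (Fin l → ℤ) →+ ℤ} {α : MulAut ↥(D.group (KK p))} :
    IsPGroup p ↥(CU hp p z lam α) := (isPGroup_UF lam α).map _

theorem CU_le (m : MData hp p q K₀) {z n : ↥(D.group (KK p))} (hz : z⁻¹ * m.σ z = n) (lam : (Fin l → ℤ) →+ ℤ) :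
    CU hp p z lam (MulAut.conj n * m.σ) ≤ m.ι.range := by
  intro u hu
  obtain ⟨k, hk⟩ := CU_pgroup ⟨u, hu⟩
  have hk' : u ^ p ^ k = 1 := congrArg Subtype.val hk
  obtain ⟨v, hv, rfl⟩ := mem_CU.1 hu
  refine mem_range_of_pow m ?_ hk'
  have h1 := (mem_UF.1 hv).2
  rw [MulAut.mul_apply, MulAut.conj_apply] at h1
  have h2 : m.σ z = z * n := by rw [← hz]; group
  rw [map_mul, map_mul, map_inv]
  calc m.σ z * m.σ v * (m.σ z)⁻¹ = z * (n * m.σ v * n⁻¹) * z⁻¹ := by rw [h2]; group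
    _ = z * v * z⁻¹ := by rw [h1]

theorem CU_conj {z τ : ↥(D.group (KK p))} {lam : (Fin l → ℤ) →+ ℤ} {α : MulAut ↥(D.group (KK p))}
    (hτ : τ ∈ TT D (KK p)) (hα : α τ = τ) {u : ↥(D.group (KK p))} (hu : u ∈ CU hp p z lam α) :
    z * τ * z⁻¹ * u * (z * τ * z⁻¹)⁻¹ ∈ CU hp p z lam α := by
  obtain ⟨v, hv, rfl⟩ := mem_CU.1 hu
  exact mem_CU.2 ⟨_, UF_conj lam hτ hα hv, by group⟩

theorem CU_finite (m : MData hp p q K₀) {z n : ↥(D.group (KK p))} (hz : z⁻¹ * m.σ z = n)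
    (lam : (Fin l → ℤ) →+ ℤ) : Finite ↥(CU hp p z lam (MulAut.conj n * m.σ)) := by
  have := finite_UF m hz lam
  exact Finite.of_surjective _ ((MulAut.conj z).toMonoidHom.subgroupMap_surjective (UF hp p lam (MulAut.conj n * m.σ)))

/-- the hypotheses of `H368.RG.mix_end` for one of the two radicals, in `G` -/
structure RadG {G : Type} [Group G] {κ : Type} (w : κ → G) (g : G) (U : Subgroup G) : Prop where
  conj : ∀ k, ∀ u ∈ U, w k * u * (w k)⁻¹ ∈ U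
  conjy : ∀ u ∈ U, g * u * g⁻¹ ∈ U
  nil : Group.IsNilpotent U
  copw : ∀ k, (orderOf (w k)).Coprime (Nat.card U)
  copy : (orderOf g).Coprime (Nat.card U)
  le_cmm : U ≤ cmm U g

theorem radG {G Ω : Type} [Group G] [Finite G] [MulAction G Ω] {N : Subgroup G} (hE : Env G Ω N) (e : N ≃* K₀)
    (m : MData hp p q K₀) (hF : H327.RG.Fr m.ι m.σ) {s : ↥(D.group (KK p))} (f : TorForm m s) {κ : Type}
    {w : κ → G} {y : κ → ↥(D.group (KK p))} (hy : ∀ i, Rep hE e m.ι (w i) (y i)) (hs : ∀ i, y i ∈ Subgroup.zpowers s)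
    (hcop : ∀ i, (orderOf (y i)).Coprime p)
    {τ : ↥(D.group (KK p))} (hτ : τ ∈ TT D (KK p)) (hα : f.α τ = τ) {g : G}
    (hg : Rep hE e m.ι g (f.z * τ * f.z⁻¹)) (lam : (Fin l → ℤ) →+ ℤ)
    (hU : UF hp p lam f.α ≤ cmm (UF hp p lam f.α) τ) : RadG w g (lf e m.ι (CU hp p f.z lam f.α)) := by
  have hle : CU hp p f.z lam f.α ≤ m.ι.range := CU_le m f.lang lam
  have hfin : Finite ↥(CU hp p f.z lam f.α) := CU_finite m f.lang lam
  have eU := lfEquiv e hF.inj hle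
  have hcard : Nat.card ↥(lf e m.ι (CU hp p f.z lam f.α)) = Nat.card ↥(CU hp p f.z lam f.α) := Nat.card_congr eU.toEquiv
  obtain ⟨n, hn⟩ := (IsPGroup.iff_card (p := p)).1 (CU_pgroup (hp := hp) (p := p) (z := f.z) (lam := lam) (α := f.α))
  have hmem : ∀ i, ∃ t ∈ TT D (KK p), f.α t = t ∧ y i = f.z * t * f.z⁻¹ := by
    intro i
    obtain ⟨j, hj⟩ := Subgroup.mem_zpowers_iff.1 (hs i)
    refine ⟨f.t ^ j, zpow_mem f.mem j, by rw [map_zpow]; exact congrArg (· ^ j) f.fix, ?_⟩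
    have h1 : s ^ j = (MulAut.conj f.z f.t) ^ j := by rw [MulAut.conj_apply, ← f.eq]
    rw [← hj, h1, ← map_zpow, MulAut.conj_apply]
  refine ⟨fun i => ?_, ?_, ?_, fun i => ?_, ?_, ?_⟩
  · refine conj_lf hE e hF hle (hy i) fun u hu => ?_
    obtain ⟨t, ht, hαt, e1⟩ := hmem i
    rw [e1]
    exact CU_conj ht hαt hu
  · exact conj_lf hE e hF hle hg fun u hu => CU_conj hτ hα hu
  · have h1 : IsPGroup p ↥(lf e m.ι (CU hp p f.z lam f.α)) :=
      (CU_pgroup (hp := hp) (p := p) (z := f.z) (lam := lam) (α := f.α)).of_equiv eU.symm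
    exact h1.isNilpotent
  · rw [hcard, hn, Rep.orderOf hF hE e (hy i)]
    exact (hcop i).pow_right n
  · rw [hcard, hn, Rep.orderOf hF hE e hg]
    have h1 : orderOf (f.z * τ * f.z⁻¹) = orderOf τ := by
      rw [← MulAut.conj_apply]
      exact orderOf_injective (MulAut.conj f.z).toMonoidHom (MulAut.conj f.z).injective τ
    rw [h1]
    exact (coprime_torus hτ hp).pow_right n
  · exact cmm_lf hE e hF hle hg (cmm_map (MulAut.conj f.z).toMonoidHom hU)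

/-- **MIX, case (A).** -/
theorem mix_tor {G Ω : Type} [Group G] [Finite G] [MulAction G Ω] [Nonempty Ω] {N : Subgroup G} (hE : Env G Ω N)
    [IsSimpleGroup K₀] (e : N ≃* K₀)
    (m : MData hp p q K₀) (hF : H327.RG.Fr m.ι m.σ) {d : ℕ} {B : Fin l → Fin l → ℤ} (hB : InvC D l d B) (hd : d ≠ 0)
    {s : ↥(D.group (KK p))} (f : TorForm m s) {κ : Type} {x : κ → G} {y : κ → ↥(D.group (KK p))} {r : κ → ℕ}
    (hy : ∀ i, Rep hE e m.ι (x i) (y i)) (hpf : PF y r) {i₀ : κ} (hi₀ : r i₀ = p) (hN : y i₀ ∈ m.ι.range)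
    (hs : ∀ i, i ≠ i₀ → y i ∈ Subgroup.zpowers s) (hreg : ¬ Cov Ω (fun i : {i // i ≠ i₀} => x i))
    {τ : ↥(D.group (KK p))} (hτ : τ ∈ TT D (KK p)) (hα : f.α τ = τ) (hK : f.z * τ * f.z⁻¹ ∈ H368.RG.KK m.ι.range y i₀)
    (lam : (Fin l → ℤ) →+ ℤ) (hlam : ∀ x, lam (f.θ x) = lam x)
    (hne : ∃ b, IsRoot M.toCoxeterSystem hp.isCartan b ∧ lam b ≠ 0)
    (hU : UF hp p lam f.α ≤ cmm (UF hp p lam f.α) τ) (hU' : UF hp p (-lam) f.α ≤ cmm (UF hp p (-lam) f.α) τ) :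
    ¬ Cov Ω x := by
  intro hcov
  obtain ⟨g, hgK, hg⟩ := nclo_rep hF hE e hy hK
  have hgK' : g ∈ H368.RG.KK N x i₀ := hgK
  have hrne : ∀ i, i ≠ i₀ → r i ≠ p := fun i hi h => hi (hpf.inj (h.trans hi₀.symm))
  have hcop : ∀ i : {i // i ≠ i₀}, (orderOf (y i)).Coprime p := fun i => by
    have : Fact (r i).Prime := ⟨hpf.prime i⟩
    rw [orderOf_eq_prime (hpf.pow i) (hpf.ne i), Nat.coprime_primes (hpf.prime i) hr.out]
    exact hrne i i.2
  have R1 := radG hE e m hF f (w := fun i : {i // i ≠ i₀} => x i) (y := fun i => y i) (fun i => hy i)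
    (fun i => hs i i.2) hcop hτ hα hg lam hU
  have R2 := radG hE e m hF f (w := fun i : {i // i ≠ i₀} => x i) (y := fun i => y i) (fun i => hy i)
    (fun i => hs i i.2) hcop hτ hα hg (-lam) hU'
  have hNx : x i₀ ∈ N := (Rep.mem_N hF (hy i₀)).2 hN
  have hcx : ∀ i j, x i * x j = x j * x i := fun i j => (Rep.comm hF (hy i) (hy j)).2 (hpf.comm i j)
  refine H368.RG.mix_end hE hreg (fun k l => hcx k l) (H368.RG.KK_le_RR hcov hgK')
    (fun k => H368.RG.KK_comm hNx (fun i => hcx i₀ i) hgK' k.2) R1.conj R1.conjy R1.nil R1.copw R1.copy R1.le_cmm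
    R2.conj R2.conjy R2.nil R2.copw R2.copy R2.le_cmm ?_
  refine le_sup_lf e hF.inj (CU_le m f.lang lam) (CU_le m f.lang (-lam)) fun H' h1 h2 => ?_
  refine H256.EX.gen_pm m hB hd f.lang f.fr lam hlam hne H' (fun v hv hv' => h1 (mem_CU.2 ⟨v, ⟨hv, hv'⟩, rfl⟩))
    (fun v hv hv' => h2 (mem_CU.2 ⟨v, ⟨?_, hv'⟩, rfl⟩))
  rw [SetLike.mem_coe, ← setNeg hp lam]
  exact hv

end

end Cfsg.Agent.H520.MX
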